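import Groth.Agent.PP16Lib.SymGrRegular
import Groth.Agent.EGA41Lib.Separable
import Mathlib.RingTheory.Ideal.Cotangent
import Mathlib.RingTheory.Smooth.Kaehler
import Mathlib.RingTheory.MvPolynomial.EulerIdentity

/-!
# In characteristic zero projective differentials force regularity
-/

set_option autoImplicit false
set_option linter.style.haveILetI false

universe u

open IsLocalRing TensorProduct MvPolynomial

namespace Groth.Agent.CharZeroJac

variable {k B : Type u} [Field k] [CommRing B] [Algebra k B]

/-- Derivations and polynomial evaluation. -/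
theorem derivation_aeval {n : ℕ} (D : Derivation k B B) (x : Fin n → B) (p : MvPolynomial (Fin n) k) :
    D (aeval x p) = ∑ j, D (x j) * aeval x (pderiv j p) := by
  induction p using MvPolynomial.induction_on with
  | C a => simp
  | add p q hp hq => simp only [map_add, hp, hq, mul_add, Finset.sum_add_distrib]
  | mul_X p i hp =>
    have e : ∀ j, D (x j) * aeval x (pderiv j (p * X i)) =
        x i * (D (x j) * aeval x (pderiv j p)) + (if j = i then D (x i) * aeval x p else 0) := fun j => by
      by_cases h : j = i
      · subst h; simp; ring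
      · simp [h, pderiv_X_of_ne (Ne.symm h)]; ring
    rw [map_mul, aeval_X, Derivation.leibniz, hp, smul_eq_mul, smul_eq_mul, Finset.sum_congr rfl fun j _ => e j,
      Finset.sum_add_distrib, Finset.sum_ite_eq' Finset.univ i, if_pos (Finset.mem_univ i), ← Finset.mul_sum]
    ring

variable [IsLocalRing B]

/-- Derivations lower the order by at most one. -/
theorem derivation_mem_pow (D : Derivation k B B) : ∀ (m : ℕ) {z : B},
    z ∈ maximalIdeal B ^ (m + 1) → D z ∈ maximalIdeal B ^ m := fun m => by
  induction m with
  | zero => intro z _; simp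
  | succ m ih =>
    intro z hz
    rw [pow_succ (maximalIdeal B) (m + 1)] at hz
    refine Submodule.mul_induction_on hz (fun a ha b hb => ?_) fun a b ha hb => by rw [map_add]; exact add_mem ha hb
    rw [Derivation.leibniz, smul_eq_mul, smul_eq_mul]
    refine add_mem (Ideal.mul_mem_right _ _ ha) ?_
    rw [pow_succ' (maximalIdeal B) m]
    exact Ideal.mul_mem_mul hb (ih ha)

/-- Elements of the maximal ideal dual to derivations form a quasi-regular sequence. -/
theorem isQuasiRegular_of_derivations [CharZero k] {r : ℕ} (x : Fin r → B)
    (hspan : Ideal.span (Set.range x) = maximalIdeal B) (D : Fin r → Derivation k B B)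
    (hD : ∀ i j, D i (x j) - (if j = i then 1 else 0) ∈ maximalIdeal B) :
    CAlgX.IsQuasiRegular x := by
  classical
  intro n
  rw [hspan]
  induction n with
  | zero =>
    intro P hP hev d
    have hC : P = C (coeff 0 P) := totalDegree_eq_zero_iff_eq_C.1 (Nat.eq_zero_of_le_zero hP.totalDegree_le)
    rw [hC, coeff_C]
    split_ifs
    · rw [hC, eval_C] at hev
      simpa using hev
    · exact zero_mem _
  | succ n ih =>
    intro P hP hev d
    by_cases hd : coeff d P = 0
    · rw [hd]; exact zero_mem _
    obtain ⟨i, hi⟩ : ∃ i, d i ≠ 0 := by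
      by_contra hc
      push Not at hc
      have := hP hd
      rw [show d = 0 from Finsupp.ext hc, map_zero] at this
      omega
    have hmem : ∀ e : Fin r →₀ ℕ, aeval x (monomial e (1 : k)) ∈ maximalIdeal B ^ (∑ j, e j) := fun e => by
      rw [aeval_monomial, map_one, one_mul, Finsupp.prod_fintype _ _ (fun _ => pow_zero _), ← Finset.prod_pow_eq_pow_sum]
      exact Ideal.prod_mem_prod fun j _ => Ideal.pow_mem_pow (hspan ▸ Ideal.subset_span ⟨j, rfl⟩) _
    have hdeg : ∀ e ∈ P.support, ∑ j, e j = n + 1 := fun e he => by
      have := hP (mem_support_iff.1 he)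
      rwa [Finsupp.weight_apply, Finsupp.sum_fintype _ _ (fun _ => by simp), Finset.sum_congr rfl fun j _ =>
        show e j • (1 : Fin r → ℕ) j = e j by simp] at this
    have hterm : ∀ e ∈ P.support, D i (eval x (monomial e (coeff e P))) -
        eval x (pderiv i (monomial e (coeff e P))) ∈ maximalIdeal B ^ (n + 1) := fun e he => by
      have e1 : ∀ (s : Fin r →₀ ℕ) (c : B), eval x (monomial s c) = c * aeval x (monomial s (1 : k)) := fun s c => by
        rw [eval_monomial, aeval_monomial, map_one, one_mul]
      have e2 : eval x (pderiv i (monomial e (coeff e P))) =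
          coeff e P * aeval x (pderiv i (monomial e (1 : k))) := by
        rw [pderiv_monomial, pderiv_monomial, eval_monomial, aeval_monomial, map_mul, map_natCast, map_one, one_mul,
          mul_assoc]
      have hu : aeval x (monomial e (1 : k)) ∈ maximalIdeal B ^ (n + 1) := hdeg e he ▸ hmem e
      have hder : ∀ j, aeval x (pderiv j (monomial e (1 : k))) ∈ maximalIdeal B ^ n := fun j => by
        by_cases hj : e j = 0
        · rw [pderiv_monomial, hj, Nat.cast_zero, mul_zero, map_zero, map_zero]; exact zero_mem _
        rw [pderiv_monomial, one_mul, ← mul_one ((e j : ℕ) : k), ← smul_eq_mul, ← smul_monomial, map_smul]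
        refine Submodule.smul_of_tower_mem _ _ (Ideal.pow_le_pow_right ?_ (hmem _))
        have := hdeg e he
        rw [← Finset.add_sum_erase _ _ (Finset.mem_univ j)] at this ⊢
        have h2 : ∑ a ∈ Finset.univ.erase j, (e - Finsupp.single j 1 : Fin r →₀ ℕ) a = ∑ a ∈ Finset.univ.erase j, e a :=
          Finset.sum_congr rfl fun a ha => by
            rw [Finsupp.tsub_apply, Finsupp.single_apply, if_neg (Ne.symm (Finset.ne_of_mem_erase ha)), Nat.sub_zero]
        rw [h2, Finsupp.tsub_apply, Finsupp.single_eq_same]
        omega
      rw [e1, e2, Derivation.leibniz, smul_eq_mul, smul_eq_mul, derivation_aeval, add_sub_right_comm, ← mul_sub]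
      refine add_mem (Ideal.mul_mem_left _ _ ?_) (Ideal.mul_mem_right _ _ hu)
      rw [← Finset.add_sum_erase _ _ (Finset.mem_univ i), add_sub_right_comm]
      nth_rw 2 [← one_mul (aeval x (pderiv i (monomial e (1 : k))))]
      rw [← sub_mul, pow_succ']
      refine add_mem (Ideal.mul_mem_mul ?_ (hder i)) (Submodule.sum_mem _ fun j hj => Ideal.mul_mem_mul ?_ (hder j))
      · simpa using hD i i
      · simpa [Finset.ne_of_mem_erase hj] using hD i j
    have hkey : eval x (pderiv i P) ∈ maximalIdeal B ^ (n + 1) := by
      have h1 : D i (eval x P) ∈ maximalIdeal B ^ (n + 1) := by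
        exact derivation_mem_pow (D i) (n + 1) hev
      have h2 : D i (eval x P) - eval x (pderiv i P) ∈ maximalIdeal B ^ (n + 1) := by
        rw [as_sum P, map_sum, map_sum, map_sum, map_sum, ← Finset.sum_sub_distrib]
        exact Submodule.sum_mem _ hterm
      simpa using sub_mem h1 h2
    have hd1 : (d - Finsupp.single i 1) + Finsupp.single i 1 = d :=
      tsub_add_cancel_of_le (Finsupp.single_le_iff.2 (Nat.one_le_iff_ne_zero.2 hi))
    have := ih (pderiv i P) (hP.pderiv) (by simpa using hkey) (d - Finsupp.single i 1)
    rw [coeff_pderiv, hd1] at this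
    have hunit : IsUnit ((((d - Finsupp.single i 1 : Fin r →₀ ℕ) i : ℕ) : B) + 1) := by
      rw [← Nat.cast_add_one, ← map_natCast (algebraMap k B)]
      exact (IsUnit.mk0 _ (Nat.cast_ne_zero.2 (Nat.succ_ne_zero _))).map _
    exact (Ideal.mul_unit_mem_iff_mem _ hunit).1 this

/-- In characteristic zero a local algebra with projective differentials is regular. -/
theorem isRegularLocalRing_of_projective_kaehler [CharZero k] [IsNoetherianRing B]
    [Module.Projective B Ω[B⁄k]] : IsRegularLocalRing B := by
  classical
  let K := ResidueField B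
  haveI : Algebra.FormallySmooth k K := EGA41Lib.formallySmooth_of_charZero
  have hf : Function.Surjective (algebraMap B K) := residue_surjective
  let f := IsScalarTower.toAlgHom k B K
  have hinjk : Function.Injective (KaehlerDifferential.kerCotangentToTensor k B K) := by
    have hq : Function.Surjective f.kerSquareLift := fun y => by
      obtain ⟨x, rfl⟩ := hf y
      exact ⟨Ideal.Quotient.mk _ x, rfl⟩
    have hnil : IsNilpotent (RingHom.ker (f.kerSquareLift : (B ⧸ RingHom.ker f.toRingHom ^ 2) →+* K)) := by
      refine ⟨2, ?_⟩
      rw [Ideal.zero_eq_bot]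
      have := AlgHom.ker_kerSquareLift f
      rw [← Ideal.cotangentIdeal_square (RingHom.ker f.toRingHom), ← this]
      rfl
    let g := Algebra.FormallySmooth.liftOfSurjective (AlgHom.id k K) f.kerSquareLift hq hnil
    have hg : f.kerSquareLift.comp g = AlgHom.id k K := AlgHom.ext fun y =>
      Algebra.FormallySmooth.liftOfSurjective_apply (AlgHom.id k K) f.kerSquareLift hq hnil y
    obtain ⟨l, hl⟩ := (retractionKerCotangentToTensorEquivSection (R := k) (P := B) (S := K) hf).symm ⟨g, hg⟩
    exact Function.LeftInverse.injective (g := l) fun x => LinearMap.congr_fun hl x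
  let b := Module.finBasis K (CotangentSpace B)
  choose x hx using fun i => (maximalIdeal B).toCotangent_surjective (b i)
  have hspan : Ideal.span (Set.range fun i => (x i : B)) = maximalIdeal B := by
    have htop : Submodule.span B (Set.range x) = ⊤ := by
      rw [← CotangentSpace.span_image_eq_top_iff, ← Set.range_comp,
        show (maximalIdeal B).toCotangent ∘ x = b from funext hx, b.span_eq]
    have h2 := congrArg (Submodule.map (Submodule.subtype (maximalIdeal B))) htop
    rw [Submodule.map_span, ← Set.range_comp, Submodule.map_top, Submodule.range_subtype] at h2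
    exact h2
  have hli : LinearIndependent K fun i => (1 : K) ⊗ₜ[B] KaehlerDifferential.D k B (x i : B) := by
    refine Fintype.linearIndependent_iff.2 fun c hc => ?_
    choose c' hc' using fun i => hf (c i)
    let z : maximalIdeal B := ∑ i, c' i • x i
    have hz : ((maximalIdeal B).toCotangent z) = ∑ i, c i • b i := by
      rw [map_sum]
      refine Finset.sum_congr rfl fun i _ => ?_
      rw [map_smul, hx, ← hc', algebraMap_smul]
    have hD : (1 : K) ⊗ₜ[B] KaehlerDifferential.D k B (z : B) = 0 := by
      rw [← hc, AddSubmonoidClass.coe_finsetSum, map_sum, TensorProduct.tmul_sum]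
      refine Finset.sum_congr rfl fun i _ => ?_
      rw [Submodule.coe_smul, smul_eq_mul, Derivation.leibniz, TensorProduct.tmul_add, TensorProduct.tmul_smul,
        TensorProduct.tmul_smul, ← hc', algebraMap_smul, add_eq_left, TensorProduct.smul_tmul',
        Algebra.smul_def, mul_one, ResidueField.algebraMap_eq, (residue_eq_zero_iff _).2 (x i).2,
        TensorProduct.zero_tmul]
    have key : ∀ (I : Ideal B), I = RingHom.ker (algebraMap B K) → ∀ w : I,
        (1 : K) ⊗ₜ[B] KaehlerDifferential.D k B (w : B) = 0 → I.toCotangent w = 0 := by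
      rintro I rfl w hw
      exact hinjk (by rw [KaehlerDifferential.kerCotangentToTensor_toCotangent, hw, map_zero])
    have h0 := key _ (ker_residue (R := B)).symm z hD
    rw [hz] at h0
    exact Fintype.linearIndependent_iff.1 b.linearIndependent c h0
  obtain ⟨G, hG⟩ := (Fintype.linearCombination K fun i =>
    (1 : K) ⊗ₜ[B] KaehlerDifferential.D k B (x i : B)).exists_leftInverse_of_injective
    (LinearMap.ker_eq_bot.2 hli.fintypeLinearCombination_injective)
  choose ψ hψ using fun i => Module.projective_lifting_property (Algebra.linearMap B K)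
    (((LinearMap.proj i : ((Fin (Module.finrank K (CotangentSpace B))) → K) →ₗ[K] K).comp G).restrictScalars B ∘ₗ
      TensorProduct.mk B K Ω[B⁄k] 1) hf
  have hqr := isQuasiRegular_of_derivations (k := k) (fun i => (x i : B)) hspan
    (fun i => (ψ i).compDer (KaehlerDifferential.D k B)) fun i j => by
    rw [← residue_eq_zero_iff, map_sub, sub_eq_zero]
    have h1 := LinearMap.congr_fun (hψ i) (KaehlerDifferential.D k B (x j : B))
    refine h1.trans ?_
    have h2 := LinearMap.congr_fun hG (Pi.single j 1)
    rw [LinearMap.comp_apply, Fintype.linearCombination_apply_single, one_smul, LinearMap.id_apply] at h2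
    show G ((1 : K) ⊗ₜ[B] KaehlerDifferential.D k B (x j : B)) i = _
    rw [h2, Pi.single_apply, apply_ite (residue B), map_one, map_zero]
    exact if_congr eq_comm rfl rfl
  refine IsRegularLocalRing.of_spanFinrank_maximalIdeal_le B ?_
  rw [spanFinrank_maximalIdeal_eq_finrank_cotangentSpace]
  exact PP16Lib.le_ringKrullDim_of_quasiRegular _ _ hqr hspan

end Groth.Agent.CharZeroJac
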